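import Mathlib
import Groth.Agent.CSALib.Splitting
import Groth.Agent.CSADescent.Basic
import Groth.Agent.EtTraceLib.BrauerNorm
import Groth.Agent.S13289
import Groth.Agent.S13290

/-!
# Two-cocycles with constant values over fields of transcendence degree one

Finite-dimensional algebra for the splitting of Brauer classes by extensions over which torsors
descend to fields of transcendence degree at most one.
-/

set_option autoImplicit false
set_option linter.style.haveILetI false

universe u

open scoped TensorProduct MatrixGroups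
attribute [local instance] CSAGal.matrixAction GpH1.unitsAction CSAGal.pglAction CSAGal.tensorAction

noncomputable section

namespace Groth.Agent.H13Lib

theorem matrix_scalar_of_commute {R : Type*} [CommRing R] {n : Type*} [Fintype n] [DecidableEq n]
    [Nonempty n] (A : Matrix n n R) (h : ∀ X, A * X = X * A) :
    A = A (Classical.arbitrary n) (Classical.arbitrary n) • (1 : Matrix n n R) := by
  obtain ⟨c, hc⟩ := Matrix.mem_range_scalar_of_commute_single (M := A) fun i j _ => (h _).symm
  subst hc
  simp [Matrix.smul_one_eq_diagonal, Matrix.scalar_apply]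

/-- Central simple algebras over a field of transcendence degree at most one over an algebraically
closed field are split. -/
theorem exists_matrix_of_trdeg_le_one (k : Type u) [Field k] [IsAlgClosed k] (E : Type u) [Field E]
    [Algebra k E] (hE : Algebra.trdeg k E ≤ 1) (C : Type u) [Ring C] [Algebra E C] [Module.Finite E C]
    [IsSimpleRing C] [Algebra.IsCentral E C] :
    ∃ m : ℕ, m ≠ 0 ∧ Nonempty (C ≃ₐ[E] Matrix (Fin m) (Fin m) E) := by
  refine EtTraceLib.exists_matrix_of_brauer_trivial ?_ C
  intro D _ _ _ _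
  have hfin : Algebra.trdeg k E < Cardinal.aleph0 := hE.trans_lt Cardinal.one_lt_aleph0
  obtain ⟨j, hj⟩ := Cardinal.lt_aleph0.1 hfin
  rw [hj, ← Nat.cast_one, Nat.cast_le] at hE
  rcases Nat.lt_or_ge j 1 with h0 | h1
  · haveI : Algebra.IsAlgebraic k E := by
      rw [← trdeg_eq_zero_iff, hj]
      simp [Nat.lt_one_iff.1 h0]
    letI : Algebra k D := ((algebraMap E D).comp (algebraMap k E)).toAlgebra'
      fun c x => Algebra.commutes (algebraMap k E c) x
    haveI : IsScalarTower k E D := IsScalarTower.of_algebraMap_eq fun _ => rfl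
    have hk : Function.Bijective (algebraMap k E) :=
      IsAlgClosed.algebraMap_bijective_of_isIntegral
    haveI : Algebra.IsIntegral k E := Algebra.IsAlgebraic.isIntegral
    haveI : Algebra.IsIntegral E D := Algebra.IsIntegral.of_finite E D
    haveI : Module.Finite k E :=
      Module.Finite.of_surjective (Algebra.linearMap k E) hk.2
    haveI : Module.Finite k D := Module.Finite.trans E D
    haveI : Algebra.IsIntegral k D := Algebra.IsIntegral.of_finite k D
    have hD : Function.Bijective (algebraMap k D) := IsAlgClosed.algebraMap_bijective_of_isIntegral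
    refine finrank_eq_one (1 : D) one_ne_zero fun x => ?_
    obtain ⟨c, hc⟩ := hD.2 x
    exact ⟨algebraMap k E c, by rw [← hc, Algebra.smul_def, mul_one]; rfl⟩
  · exact EtTraceLib.brauer_trivial_of_trdeg_one k E (by rw [hj, le_antisymm hE h1, Nat.cast_one]) E D

/-- A two-cocycle with constant values of a group acting faithfully on a field of transcendence
degree at most one is a coboundary. -/
theorem exists_coboundary (k : Type u) [Field k] [IsAlgClosed k] (F : Type u) [Field F] [Algebra k F]
    (hF : Algebra.trdeg k F ≤ 1) (Γ : Type u) [Group Γ] [Finite Γ] [MulSemiringAction Γ F]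
    [FaithfulSMul Γ F] [SMulCommClass Γ k F] (c : Γ → Γ → kˣ)
    (hc : ∀ s t r, c s t * c (s * t) r = c t r * c s (t * r)) :
    ∃ f : Γ → Fˣ, ∀ s t,
      algebraMap k F (c s t) * (f (s * t) : F) = (f s : F) * s • (f t : F) := by
  classical
  haveI := Fintype.ofFinite Γ
  let E := FixedPoints.subfield Γ F
  have hkE : ∀ x : k, algebraMap k F x ∈ E := fun x s => smul_algebraMap s x
  letI : Algebra k E := ((algebraMap k F).codRestrict E hkE).toAlgebra
  haveI : IsScalarTower k E F := IsScalarTower.of_algebraMap_eq fun _ => rfl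
  have hE : Algebra.trdeg k E ≤ 1 :=
    (trdeg_le_of_injective (IsScalarTower.toAlgHom k E F)
      (algebraMap E F).injective).trans hF
  let τ : Γ ≃* (F ≃ₐ[E] F) := FixedPoints.toAlgAutMulEquiv Γ F
  haveI : IsGalois E F := IsGalois.of_fixed_field F Γ
  haveI : FiniteDimensional E F := inferInstanceAs (FiniteDimensional (FixedPoints.subfield Γ F) F)
  let N := Fintype.card Γ
  have hN : 0 < N := Fintype.card_pos
  haveI : Nonempty (Fin N) := ⟨⟨0, hN⟩⟩
  let en : Γ ≃ Fin N := Fintype.equivFin Γ
  let P : Γ → GL (Fin N) F := fun s =>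
    { val := Matrix.of fun i j => if en.symm i = s * en.symm j then
        algebraMap k F (c s (en.symm j)) else 0
      inv := Matrix.of fun j i => if en.symm i = s * en.symm j then
        algebraMap k F ((c s (en.symm j))⁻¹ : kˣ) else 0
      val_inv := by
        ext i i'
        rw [Matrix.mul_apply, Finset.sum_eq_single (en (s⁻¹ * en.symm i))]
        · simp only [Matrix.of_apply, Equiv.symm_apply_apply, mul_inv_cancel_left, if_true,
            Matrix.one_apply]
          by_cases h : i = i'
          · subst h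
            simp [← map_mul]
          · rw [if_neg h, if_neg fun e => h (en.symm.injective e).symm, mul_zero]
        · intro j _ hj
          rw [Matrix.of_apply, if_neg fun e => hj ?_, zero_mul]
          rw [e]; simp
        · exact fun h => absurd (Finset.mem_univ _) h
      inv_val := by
        ext j j'
        rw [Matrix.mul_apply, Finset.sum_eq_single (en (s * en.symm j))]
        · simp only [Matrix.of_apply, Equiv.symm_apply_apply, if_true, Matrix.one_apply]
          by_cases h : j = j'
          · subst h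
            simp [← map_mul]
          · rw [if_neg h, if_neg fun e => h (en.symm.injective (mul_left_cancel e)), mul_zero]
        · intro i _ hi
          rw [Matrix.of_apply, if_neg fun e => hi ?_, zero_mul]
          rw [← e]; simp
        · exact fun h => absurd (Finset.mem_univ _) h }
  have hPfix : ∀ (σ : F ≃ₐ[E] F) s, σ • P s = P s := by
    intro σ s
    refine Units.ext ?_
    ext i j
    show σ ((P s : Matrix (Fin N) (Fin N) F) i j) = _
    simp only [P, Matrix.of_apply]
    split_ifs
    · rw [IsScalarTower.algebraMap_apply k E F, AlgEquiv.commutes]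
    · rw [map_zero]
  have hPmul : ∀ s t, (P s : Matrix (Fin N) (Fin N) F) * P t = algebraMap k F (c s t) • (P (s * t) : Matrix (Fin N) (Fin N) F) := by
    intro s t
    ext i l
    rw [Matrix.mul_apply, Finset.sum_eq_single (en (t * en.symm l))]
    · simp only [P, Matrix.of_apply, Equiv.symm_apply_apply, if_true, Matrix.smul_apply, smul_eq_mul]
      rw [mul_assoc s t]
      split_ifs
      · rw [← map_mul, ← map_mul, ← Units.val_mul, ← Units.val_mul, hc s t (en.symm l), mul_comm]
      · simp
    · intro j _ hj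
      simp only [P, Matrix.of_apply]
      rw [mul_eq_zero]
      right
      rw [if_neg fun e => hj ?_]
      rw [← e]; simp
    · exact fun h => absurd (Finset.mem_univ _) h
  let p : (F ≃ₐ[E] F) → Matrix.ProjGenLinGroup (Fin N) F := fun σ => Matrix.ProjGenLinGroup.mk (P (τ.symm σ))
  have hp : GpH1.IsOneCocycle p := by
    intro σ σ'
    show Matrix.ProjGenLinGroup.mk (P (τ.symm (σ * σ'))) =
      Matrix.ProjGenLinGroup.mk (P (τ.symm σ)) * σ • Matrix.ProjGenLinGroup.mk (P (τ.symm σ'))
    rw [CSADescent.smul_mk, hPfix, ← map_mul Matrix.ProjGenLinGroup.mk, map_mul τ.symm,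
      Matrix.ProjGenLinGroup.mk_eq_mk_iff]
    refine ⟨Units.map (algebraMap k F).toMonoidHom (c (τ.symm σ) (τ.symm σ')), Units.ext ?_⟩
    rw [Units.val_mul, Units.val_mul, hPmul]
    simp [Matrix.GeneralLinearGroup.scalar, ← Matrix.smul_eq_mul_diagonal, algebraMap_smul]
  obtain ⟨A, _, _, φ, c', hcen, hsim, hdim, hcl, hφ⟩ := Groth.Agent.S13289.result E F N hN ⟨p, hp⟩
  haveI := hcen
  haveI := hsim
  haveI : Module.Finite E A := Module.finite_of_finrank_pos (by rw [hdim]; positivity)
  obtain ⟨m, hm0, ⟨e⟩⟩ := exists_matrix_of_trdeg_le_one k E hE A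
  have hmN : m = N := by
    have h := e.toLinearEquiv.finrank_eq
    rw [hdim, Module.finrank_matrix] at h
    simp [Fintype.card_fin] at h
    nlinarith
  subst hmN
  let ι₀ : Matrix (Fin N) (Fin N) E →ₐ[E] Matrix (Fin N) (Fin N) F := (Algebra.ofId E F).mapMatrix
  let ψ : F ⊗[E] Matrix (Fin N) (Fin N) E →ₐ[F] Matrix (Fin N) (Fin N) F :=
    Algebra.TensorProduct.lift (Algebra.ofId F _) ι₀ fun a d => Algebra.commutes a _
  haveI : IsSimpleRing (F ⊗[E] Matrix (Fin N) (Fin N) E) :=
    CSALib.isSimpleRing_tensor' (Matrix (Fin N) (Fin N) E) F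
  have hψinj : Function.Injective ψ := ψ.toRingHom.injective
  have hψd : Module.finrank F (F ⊗[E] Matrix (Fin N) (Fin N) E) =
      Module.finrank F (Matrix (Fin N) (Fin N) F) := by
    rw [Module.finrank_baseChange, Module.finrank_matrix, Module.finrank_matrix]
    simp
  let φ' : F ⊗[E] Matrix (Fin N) (Fin N) E ≃ₐ[F] Matrix (Fin N) (Fin N) F :=
    AlgEquiv.ofBijective ψ
      ⟨hψinj, (LinearMap.injective_iff_surjective_of_finrank_eq_finrank (f := ψ.toLinearMap) hψd).1 hψinj⟩
  have hφ'tmul : ∀ (x : F) (X : Matrix (Fin N) (Fin N) E),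
      φ' (x ⊗ₜ[E] X) = x • X.map (algebraMap E F) := by
    intro x X
    show ψ (x ⊗ₜ[E] X) = _
    refine (Algebra.TensorProduct.lift_tmul _ _ _ x X).trans ?_
    rw [Algebra.ofId_apply, ← Algebra.smul_def]
    rfl
  have hφ'eq : ∀ (σ : F ≃ₐ[E] F) t, φ' (σ • t) = σ • φ' t := by
    intro σ t
    induction t using TensorProduct.induction_on with
    | zero => simp
    | tmul x X =>
      rw [CSADescent.smul_tmul_one, hφ'tmul, hφ'tmul, CSADescent.smul_smul_matrix]
      congr 1
      ext i j
      exact (AlgEquiv.commutes σ (X i j)).symm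
    | add x y hx hy => rw [smul_add, map_add, map_add, hx, hy, smul_add]
  have htriv : ∀ (σ : F ≃ₐ[E] F) (g : GL (Fin N) F),
      Matrix.ProjGenLinGroup.mk g = (GpH1.OneCocycle.trivial :
        GpH1.OneCocycle (F ≃ₐ[E] F) (Matrix.ProjGenLinGroup (Fin N) F)) σ →
      ∀ X : Matrix (Fin N) (Fin N) F, φ' (σ • φ'.symm X) =
        (g : Matrix (Fin N) (Fin N) F) * (σ • X) * ((g⁻¹ : GL (Fin N) F) : Matrix (Fin N) (Fin N) F) := by
    intro σ g hg X
    rw [hφ'eq, AlgEquiv.apply_symm_apply,
      CSADescent.conj_eq_of_mk_eq (h := (1 : GL (Fin N) F)) (hg.trans (map_one _).symm)]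
    simp
  obtain hiff := Groth.Agent.S13290.result E F N hN A (Matrix (Fin N) (Fin N) E) φ φ' c'
    GpH1.OneCocycle.trivial hφ htriv
  obtain ⟨b, hb⟩ := (GpH1.OneCocycle.cl_eq_cl_iff _ _).1 (hcl.symm.trans (hiff.1 ⟨e⟩))
  obtain ⟨B, rfl⟩ := Matrix.ProjGenLinGroup.mk_surjective b
  have hf : ∀ s : Γ, ∃ u : Fˣ, (P s : Matrix (Fin N) (Fin N) F) =
      (u : F) • (((B⁻¹ * (τ s) • B : GL (Fin N) F)) : Matrix (Fin N) (Fin N) F) := by
    intro s
    have h := hb (τ s)
    change Matrix.ProjGenLinGroup.mk (P (τ.symm (τ s))) =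
      (Matrix.ProjGenLinGroup.mk B)⁻¹ * 1 * (τ s) • Matrix.ProjGenLinGroup.mk B at h
    rw [MulEquiv.symm_apply_apply, mul_one, CSADescent.smul_mk, ← map_inv, ← map_mul] at h
    obtain ⟨u, hu⟩ := Matrix.ProjGenLinGroup.mk_eq_mk_iff.1 h.symm
    refine ⟨u, ?_⟩
    rw [← hu, Units.val_mul]
    simp [Matrix.GeneralLinearGroup.scalar, Matrix.smul_eq_mul_diagonal]
  choose f hf using hf
  refine ⟨f, fun s t => ?_⟩
  have hτ : ∀ (s : Γ) (x : F), τ s x = s • x := fun _ _ => rfl
  set Q : Γ → GL (Fin N) F := fun s => B⁻¹ * (τ s) • B with hQ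
  have hQmul : Q s * (τ s) • Q t = Q (s * t) := by
    simp only [hQ, smul_mul', smul_inv', smul_smul, ← map_mul, mul_assoc, mul_inv_cancel_left]
  have h1 := hPmul s t
  have h2 : (P t : Matrix (Fin N) (Fin N) F) = (s • (f t : F)) • (((τ s) • Q t : GL (Fin N) F) : Matrix (Fin N) (Fin N) F) := by
    conv_lhs => rw [← hPfix (τ s) t, CSADescent.smul_val, hf t, CSADescent.smul_smul_matrix]
    rw [hτ, CSADescent.smul_val]
  rw [hf s, hf (s * t), h2, smul_mul_smul_comm, ← Units.val_mul, hQmul, smul_smul] at h1
  have h3 := congrArg (· * (((Q (s * t))⁻¹ : GL (Fin N) F) : Matrix (Fin N) (Fin N) F)) h1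
  simp only [smul_mul_assoc, ← Units.val_mul] at h3
  rw [show B⁻¹ * τ (s * t) • B = Q (s * t) from rfl, mul_inv_cancel, Units.val_one] at h3
  exact (smul_left_injective F (one_ne_zero (α := Matrix (Fin N) (Fin N) F)) h3).symm

/-- An algebra which receives a descent datum with a genuine cocycle is split. -/
theorem exists_split {E : Type u} [Field E] (D : Type u) [Ring D] [Algebra E D] [Algebra.IsCentral E D]
    [IsSimpleRing D] (M : Type u) [Field M] [Algebra E M] (L : Type u) [Field L] [Algebra M L]
    [Algebra E L] [IsScalarTower E M L] [FiniteDimensional M L] [IsGalois M L] (m : ℕ) (hm : 0 < m)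
    (hdim : Module.finrank E D = m * m) (ρ : D →ₐ[E] Matrix (Fin m) (Fin m) L)
    (h : (L ≃ₐ[M] L) → GL (Fin m) L) (hh : ∀ s t, h (s * t) = h s * s • h t)
    (hρ : ∀ (s : L ≃ₐ[M] L) (d : D),
      (h s : Matrix (Fin m) (Fin m) L) * (s • ρ d) = ρ d * (h s : Matrix (Fin m) (Fin m) L)) :
    ∃ n : ℕ, Nonempty ((M ⊗[E] D) ≃ₐ[M] Matrix (Fin n) (Fin n) M) := by
  classical
  let T : (L ≃ₐ[M] L) → (Fin m → L) →+ (Fin m → L) := fun s =>
    { toFun := fun v => (h s : Matrix (Fin m) (Fin m) L).mulVec fun i => s (v i)
      map_zero' := by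
        simp only [Pi.zero_apply, map_zero]
        exact Matrix.mulVec_zero _
      map_add' := fun v w => by
        simp only [Pi.add_apply, map_add]
        exact Matrix.mulVec_add _ _ _ }
  have hT : ∀ s v, T s v = (h s : Matrix (Fin m) (Fin m) L).mulVec fun i => s (v i) := fun _ _ => rfl
  have hsemi : ∀ s (x : L) v, T s (x • v) = s x • T s v := fun s x v => by
    rw [hT, hT, ← Matrix.mulVec_smul]
    congr 1
    funext i
    simp
  have hmul : ∀ s t v, T (s * t) v = T s (T t v) := fun s t v => by
    rw [hT, hT, hT, hh, Units.val_mul, CSADescent.smul_val, ← Matrix.mulVec_mulVec]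
    congr 1
    funext i
    simp [Matrix.mulVec, dotProduct, map_sum]
  have h1 : h 1 = 1 := by
    have := hh 1 1
    rw [one_smul, mul_one] at this
    exact left_eq_mul.1 this
  have hone : ∀ v, T 1 v = v := fun v => by
    rw [hT, h1, Units.val_one, Matrix.one_mulVec]
    rfl
  have hspan := CSADescent.span_fixed_eq_top (k := M) T hsemi hmul hone
  obtain ⟨b, hb, hbspan, hbli⟩ := exists_linearIndependent L {v : Fin m → L | ∀ s, T s v = v}
  have hbas : Submodule.span L b = ⊤ := hbspan.trans hspan
  let β := Module.Basis.mk hbli (by rw [Subtype.range_coe, hbas])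
  haveI : Finite b := Module.Finite.finite_basis β
  haveI : Fintype b := Fintype.ofFinite b
  have hcard : Fintype.card b = m := by
    have h2 := Module.finrank_eq_card_basis β
    rw [Module.finrank_fin_fun] at h2
    exact h2.symm
  let eb : Fin m ≃ b := (Fintype.equivFinOfCardEq hcard).symm
  let β' := β.reindex eb.symm
  let B : Matrix (Fin m) (Fin m) L := (Pi.basisFun L (Fin m)).toMatrix β'
  have hBcol : ∀ i j, B i j = (eb j : Fin m → L) i := fun i j => by
    simp [B, β', β, Module.Basis.toMatrix_apply]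
  haveI : Invertible B := Module.Basis.invertibleToMatrix _ _
  let Bu : GL (Fin m) L := unitOfInvertible B
  have hBfix : ∀ s : L ≃ₐ[M] L, (h s : Matrix (Fin m) (Fin m) L) * (s • B) = B := by
    intro s
    ext i j
    have hj := congrFun (hb (eb j).2 s) i
    rw [hT] at hj
    rw [hBcol i j, ← hj, Matrix.mul_apply]
    simp only [Matrix.mulVec, dotProduct]
    refine Finset.sum_congr rfl fun l _ => ?_
    congr 1
    show s (B l j) = _
    rw [hBcol]
  let ρ' : D →ₐ[E] Matrix (Fin m) (Fin m) L :=
    { toFun := fun d => ((Bu⁻¹ : GL (Fin m) L) : Matrix (Fin m) (Fin m) L) * ρ d * Bu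
      map_one' := by rw [map_one, mul_one, Units.inv_mul]
      map_mul' := fun d d' => by rw [map_mul]; simp only [mul_assoc, Units.mul_inv_cancel_left]
      map_zero' := by rw [map_zero, mul_zero, zero_mul]
      map_add' := fun d d' => by rw [map_add, mul_add, add_mul]
      commutes' := fun r => by
        rw [AlgHom.commutes, Algebra.algebraMap_eq_smul_one, mul_smul_comm, smul_mul_assoc, mul_one,
          Units.inv_mul] }
  have hfix : ∀ (s : L ≃ₐ[M] L) d, s • ρ' d = ρ' d := by
    intro s d
    show s • ((((Bu⁻¹ : GL (Fin m) L) : Matrix (Fin m) (Fin m) L)) * ρ d * Bu) = _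
    rw [smul_mul', smul_mul']
    have hs : h s * s • Bu = Bu := Units.ext (hBfix s)
    have hs' : s • Bu = (h s)⁻¹ * Bu := eq_inv_mul_of_mul_eq hs
    have hs'' : s • (((Bu⁻¹ : GL (Fin m) L) : Matrix (Fin m) (Fin m) L)) =
        ((Bu⁻¹ * h s : GL (Fin m) L) : Matrix (Fin m) (Fin m) L) := by
      rw [← CSADescent.smul_val, smul_inv', hs', mul_inv_rev, inv_inv]
    rw [← CSADescent.smul_val s Bu, hs', hs'']
    simp only [Units.val_mul, mul_assoc]
    rw [← mul_assoc (h s : Matrix (Fin m) (Fin m) L), hρ s d]
    simp only [mul_assoc, Units.mul_inv_cancel_left]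
    exact (mul_assoc _ _ _).symm
  have hmem : ∀ d i j, ρ' d i j ∈ Set.range (algebraMap M L) := fun d i j =>
    CSADescent.mem_range_of_fixed _ fun s => congrFun (congrFun (hfix s d) i) j
  choose r hr using hmem
  let emb : Matrix (Fin m) (Fin m) M →ₐ[E] Matrix (Fin m) (Fin m) L :=
    (IsScalarTower.toAlgHom E M L).mapMatrix
  have hemb : Function.Injective emb := fun X Y e => by
    ext i j
    exact (algebraMap M L).injective (congrFun (congrFun e i) j)
  have hr' : ∀ d, emb (Matrix.of (r d)) = ρ' d := fun d => by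
    ext i j
    exact hr d i j
  let ρM : D →ₐ[E] Matrix (Fin m) (Fin m) M :=
    { toFun := fun d => Matrix.of (r d)
      map_one' := hemb (by rw [hr', map_one, map_one])
      map_mul' := fun d d' => hemb (by rw [hr', map_mul, map_mul, hr', hr'])
      map_zero' := hemb (by rw [hr', map_zero, map_zero])
      map_add' := fun d d' => hemb (by rw [hr', map_add, map_add, hr', hr'])
      commutes' := fun c => hemb (by rw [hr', AlgHom.commutes, AlgHom.commutes]) }
  let ψ : M ⊗[E] D →ₐ[M] Matrix (Fin m) (Fin m) M :=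
    Algebra.TensorProduct.lift (Algebra.ofId M _) ρM fun a d => Algebra.commutes a _
  haveI : IsSimpleRing (M ⊗[E] D) := CSALib.isSimpleRing_tensor' D M
  haveI : Nonempty (Fin m) := ⟨⟨0, hm⟩⟩
  have hinj : Function.Injective ψ := ψ.toRingHom.injective
  haveI : FiniteDimensional E D := Module.finite_of_finrank_pos (by rw [hdim]; exact Nat.mul_pos hm hm)
  have hd : Module.finrank M (M ⊗[E] D) = Module.finrank M (Matrix (Fin m) (Fin m) M) := by
    rw [Module.finrank_baseChange, hdim, Module.finrank_matrix]
    simp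
  exact ⟨m, ⟨AlgEquiv.ofBijective ψ
    ⟨hinj, (LinearMap.injective_iff_surjective_of_finrank_eq_finrank (f := ψ.toLinearMap) hd).1 hinj⟩⟩⟩

end Groth.Agent.H13Lib
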