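import Mathlib
import Groth.Agent.H13Lib.Algebra

/-!
# Splitting data with a two-cocycle of roots of unity
-/

set_option autoImplicit false
set_option linter.style.haveILetI false
set_option maxHeartbeats 1000000
set_option synthInstance.maxHeartbeats 200000

universe u

open scoped TensorProduct MatrixGroups
attribute [local instance] CSAGal.matrixAction GpH1.unitsAction CSAGal.pglAction CSAGal.tensorAction

noncomputable section

namespace Groth.Agent.H13Lib

/-- A finite Galois extension of `K` containing `E` over which `D` has a descent datum by matrices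
of determinant one, whose cocycle defect takes values in `k`. -/
theorem exists_datum_aux (k K : Type u) [Field k] [IsAlgClosed k] [CharZero k] [Field K] [Algebra k K]
    (E : Type u) [Field E] [Algebra K E] [FiniteDimensional K E]
    (D : Type u) [DivisionRing D] [Algebra E D] [Algebra.IsCentral E D] [FiniteDimensional E D]
    (F₁ : Type u) [Field F₁] [Algebra E F₁] [FiniteDimensional E F₁] [IsGalois E F₁]
    (m : ℕ) (hm0 : m ≠ 0) (φ : F₁ ⊗[E] D ≃ₐ[F₁] Matrix (Fin m) (Fin m) F₁) :
    ∃ (F : Type u) (_ : Field F) (_ : Algebra k F) (_ : Algebra K F) (_ : Algebra E F)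
      (_ : IsScalarTower k K F) (_ : IsScalarTower K E F) (_ : FiniteDimensional K F) (_ : IsGalois K F)
      (m : ℕ) (ρ : D →ₐ[E] Matrix (Fin m) (Fin m) F) (g : (F ≃ₐ[E] F) → GL (Fin m) F)
      (c : (F ≃ₐ[E] F) → (F ≃ₐ[E] F) → kˣ),
      0 < m ∧ Module.finrank E D = m * m ∧
      (∀ s d, (g s : Matrix (Fin m) (Fin m) F) * (s • ρ d) = ρ d * (g s : Matrix (Fin m) (Fin m) F)) ∧
      ∀ s t, (g s : Matrix (Fin m) (Fin m) F) * (s • (g t : Matrix (Fin m) (Fin m) F)) =
        algebraMap k F (c s t) • (g (s * t) : Matrix (Fin m) (Fin m) F) := by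
  classical
  haveI : Nonempty (Fin m) := ⟨⟨0, Nat.pos_of_ne_zero hm0⟩⟩
  have hdim : Module.finrank E D = m * m := CSALib.finrank_of_splits φ
  haveI hchar : CharZero K := charZero_of_injective_algebraMap (algebraMap k K).injective
  haveI : CharZero E := charZero_of_injective_algebraMap (algebraMap K E).injective
  let y : D → Matrix (Fin m) (Fin m) F₁ := fun d => φ (1 ⊗ₜ d)
  have hyspan : ∀ X : Matrix (Fin m) (Fin m) F₁, X ∈ Submodule.span F₁ (Set.range y) := by
    intro X
    obtain ⟨z, rfl⟩ := φ.surjective X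
    induction z using TensorProduct.induction_on with
    | zero => rw [map_zero]; exact zero_mem _
    | tmul a d =>
      rw [show a ⊗ₜ[E] d = a • ((1 : F₁) ⊗ₜ[E] d) by rw [TensorProduct.smul_tmul', smul_eq_mul, mul_one],
        map_smul]
      exact Submodule.smul_mem _ _ (Submodule.subset_span ⟨d, rfl⟩)
    | add p q hp hq => rw [map_add]; exact add_mem hp hq
  have hg1 : ∀ σ : F₁ ≃ₐ[E] F₁, ∃ g : GL (Fin m) F₁, ∀ d,
      (g : Matrix (Fin m) (Fin m) F₁) * (σ • y d) = y d * (g : Matrix (Fin m) (Fin m) F₁) := by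
    intro σ
    let ψ : Matrix (Fin m) (Fin m) F₁ →+* Matrix (Fin m) (Fin m) F₁ :=
      φ.toRingEquiv.toRingHom.comp ((MulSemiringAction.toRingHom (F₁ ≃ₐ[E] F₁) (F₁ ⊗[E] D) σ).comp
        (φ.symm.toRingEquiv.toRingHom.comp
          (MulSemiringAction.toRingHom (F₁ ≃ₐ[E] F₁) (Matrix (Fin m) (Fin m) F₁) σ⁻¹)))
    have hψ : ∀ X, ψ X = φ (σ • φ.symm (σ⁻¹ • X)) := fun _ => rfl
    have key : ∀ (u : F₁) (z : F₁ ⊗[E] D), σ • (u • z) = σ u • (σ • z) := fun u z => by
      induction z using TensorProduct.induction_on with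
      | zero => simp
      | tmul a d =>
        rw [TensorProduct.smul_tmul', smul_eq_mul, CSADescent.smul_tmul_one, CSADescent.smul_tmul_one,
          TensorProduct.smul_tmul', smul_eq_mul, map_mul]
      | add p q hp hq => rw [smul_add, smul_add, smul_add, hp, hq, smul_add]
    have hψs : ∀ (x : F₁) X, ψ (x • X) = x • ψ X := fun x X => by
      rw [hψ, hψ, CSADescent.smul_smul_matrix,
        show φ.symm (σ⁻¹ x • σ⁻¹ • X) = σ⁻¹ x • φ.symm (σ⁻¹ • X) from φ.symm.toLinearEquiv.map_smul _ _, key,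
        show σ (σ⁻¹ x) = x from AlgEquiv.apply_symm_apply σ x]
      exact map_smul φ.toLinearEquiv _ _
    let ψA : Matrix (Fin m) (Fin m) F₁ →ₐ[F₁] Matrix (Fin m) (Fin m) F₁ := AlgHom.mk' ψ hψs
    have hψb : Function.Bijective ψA := by
      have hinj : Function.Injective ψA := ψA.toRingHom.injective
      exact ⟨hinj, (LinearMap.injective_iff_surjective (f := ψA.toLinearMap)).1 hinj⟩
    obtain ⟨g, hg⟩ := CSADescent.exists_conj (AlgEquiv.ofBijective ψA hψb)
    refine ⟨g, fun d => ?_⟩
    have h := hg (σ • y d)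
    have h2 : ψA (σ • y d) = y d := by
      show φ (σ • φ.symm (σ⁻¹ • σ • y d)) = _
      rw [inv_smul_smul, AlgEquiv.symm_apply_apply, CSADescent.smul_tmul_one, map_one]
    rw [AlgEquiv.ofBijective_apply, h2] at h
    conv_rhs => rw [h]
    rw [Units.inv_mul_cancel_right]
  choose g1 hg1 using hg1
  let Ω := AlgebraicClosure E
  haveI : Algebra.IsAlgebraic K Ω := Algebra.IsAlgebraic.trans K E Ω
  let j₁ : F₁ →ₐ[E] Ω := IsAlgClosed.lift
  have hroot : ∀ σ : F₁ ≃ₐ[E] F₁, ∃ z : Ω, z ^ m = j₁ (g1 σ : Matrix (Fin m) (Fin m) F₁).det :=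
    fun σ => IsAlgClosed.exists_pow_nat_eq _ (Nat.pos_of_ne_zero hm0)
  choose r hr using hroot
  let bE := Module.finBasis E F₁
  let bK := Module.finBasis K E
  let T : Set Ω := (Set.range fun i => j₁ (bE i)) ∪ (Set.range fun i => algebraMap E Ω (bK i)) ∪ Set.range r
  let F₀ := IntermediateField.adjoin K T
  haveI : Finite T := Set.Finite.to_subtype
    (((Set.finite_range _).union (Set.finite_range _)).union (Set.finite_range _))
  haveI : FiniteDimensional K F₀ :=
    IntermediateField.finiteDimensional_adjoin fun x _ => Algebra.IsIntegral.isIntegral x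
  haveI : Normal K Ω := normal_iff.2 fun x =>
    ⟨Algebra.IsIntegral.isIntegral x, IsAlgClosed.splits _⟩
  let F := IntermediateField.normalClosure K F₀ Ω
  have hle : F₀ ≤ F := IntermediateField.le_normalClosure F₀
  have hEm : ∀ x : E, algebraMap E Ω x ∈ F := by
    intro x
    rw [← bK.sum_repr x, map_sum]
    refine sum_mem fun i _ => ?_
    rw [Algebra.smul_def, map_mul, ← IsScalarTower.algebraMap_apply K E Ω]
    exact F.mul_mem (F.algebraMap_mem _)
      (hle (IntermediateField.subset_adjoin K T (Or.inl (Or.inr ⟨i, rfl⟩))))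
  have hFm : ∀ x : F₁, j₁ x ∈ F := by
    intro x
    rw [← bE.sum_repr x, map_sum]
    refine sum_mem fun i _ => ?_
    rw [map_smul, Algebra.smul_def]
    exact F.mul_mem (hEm _) (hle (IntermediateField.subset_adjoin K T (Or.inl (Or.inl ⟨i, rfl⟩))))
  letI algEF : Algebra E F := ((algebraMap E Ω).codRestrict F hEm).toAlgebra
  haveI : IsScalarTower K E F := IsScalarTower.of_algebraMap_eq fun x =>
    Subtype.ext (IsScalarTower.algebraMap_apply K E Ω x)
  letI algF₁F : Algebra F₁ F := ((j₁ : F₁ →+* Ω).codRestrict F hFm).toAlgebra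
  haveI : IsScalarTower E F₁ F := IsScalarTower.of_algebraMap_eq fun x =>
    Subtype.ext (j₁.commutes x).symm
  letI algkF : Algebra k F := ((algebraMap K F).comp (algebraMap k K)).toAlgebra
  haveI : IsScalarTower k K F := IsScalarTower.of_algebraMap_eq fun _ => rfl
  haveI : IsGalois K F := ⟨⟩
  let mp : Matrix (Fin m) (Fin m) F₁ →ₐ[E] Matrix (Fin m) (Fin m) F :=
    (IsScalarTower.toAlgHom E F₁ F).mapMatrix
  let ρ : D →ₐ[E] Matrix (Fin m) (Fin m) F :=
    mp.comp ((φ.toAlgHom.restrictScalars E) |>.comp Algebra.TensorProduct.includeRight)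
  have hρ : ∀ d, ρ d = mp (y d) := fun _ => rfl
  let res : (F ≃ₐ[E] F) → (F₁ ≃ₐ[E] F₁) := fun s => AlgEquiv.restrictNormalHom F₁ s
  have hres : ∀ s (x : F₁), s (algebraMap F₁ F x) = algebraMap F₁ F (res s x) := fun s x =>
    (AlgEquiv.restrictNormal_commutes s F₁ x).symm
  have hmp : ∀ (s : F ≃ₐ[E] F) X, s • mp X = mp (res s • X) := fun s X => by
    ext i j
    exact congrArg Subtype.val (hres s (X i j))
  have hrm : ∀ σ, r σ ∈ F := fun σ => hle (IntermediateField.subset_adjoin K T (Or.inr ⟨σ, rfl⟩))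
  have hrne : ∀ σ, (⟨r σ, hrm σ⟩ : F) ≠ 0 := fun σ e => by
    have h0 : r σ = 0 := congrArg Subtype.val e
    have h := hr σ
    rw [h0, zero_pow hm0, eq_comm, map_eq_zero] at h
    exact (((Matrix.isUnit_iff_isUnit_det _).1 (g1 σ).isUnit).ne_zero) h
  let g : (F ≃ₐ[E] F) → GL (Fin m) F := fun s =>
    Matrix.GeneralLinearGroup.scalar (Fin m) (Units.mk0 _ (hrne (res s)))⁻¹ *
      Units.map (mp : Matrix (Fin m) (Fin m) F₁ →* Matrix (Fin m) (Fin m) F) (g1 (res s))
  have hgval : ∀ s, (g s : Matrix (Fin m) (Fin m) F) =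
      (⟨r (res s), hrm (res s)⟩ : F)⁻¹ • mp (g1 (res s)) := fun s => by
    simp [g, Matrix.GeneralLinearGroup.scalar, ← Matrix.smul_eq_diagonal_mul]
  have hgdet : ∀ s, (g s : Matrix (Fin m) (Fin m) F).det = 1 := fun s => by
    rw [hgval, Matrix.det_smul, Fintype.card_fin]
    have h : (mp (g1 (res s) : Matrix (Fin m) (Fin m) F₁)).det =
        algebraMap F₁ F (g1 (res s) : Matrix (Fin m) (Fin m) F₁).det :=
      ((algebraMap F₁ F).map_det _).symm
    rw [h, inv_pow, show algebraMap F₁ F (g1 (res s) : Matrix (Fin m) (Fin m) F₁).det =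
      (⟨r (res s), hrm (res s)⟩ : F) ^ m from Subtype.ext (hr (res s)).symm]
    exact inv_mul_cancel₀ (pow_ne_zero _ (hrne _))
  have hconj : ∀ s d, (g s : Matrix (Fin m) (Fin m) F) * (s • ρ d) = ρ d * (g s : Matrix (Fin m) (Fin m) F) := by
    intro s d
    rw [hgval, hρ, hmp, smul_mul_assoc, mul_smul_comm, ← map_mul, ← map_mul, hg1]
  have hspan : ∀ X : Matrix (Fin m) (Fin m) F, X ∈ Submodule.span F (Set.range ρ) := by
    intro X
    rw [Matrix.matrix_eq_sum_single X]
    refine sum_mem fun i _ => sum_mem fun j _ => ?_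
    rw [← mul_one (X i j), ← smul_eq_mul, ← Matrix.smul_single]
    refine Submodule.smul_mem _ _ ?_
    rw [show Matrix.single i j (1 : F) = mp (Matrix.single i j 1) by
      ext a b; simp [mp, Matrix.single_apply, apply_ite (algebraMap F₁ F)]]
    have hy := hyspan (Matrix.single i j 1)
    revert hy
    generalize (Matrix.single i j 1 : Matrix (Fin m) (Fin m) F₁) = W
    intro hy
    induction hy using Submodule.span_induction with
    | mem z hz => obtain ⟨d, rfl⟩ := hz; exact Submodule.subset_span ⟨d, hρ d⟩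
    | zero => rw [map_zero]; exact zero_mem _
    | add p q _ _ hp hq => rw [map_add]; exact add_mem hp hq
    | smul a p _ hp =>
      rw [show mp (a • p) = algebraMap F₁ F a • mp p by ext u v; simp [mp]]
      exact Submodule.smul_mem _ _ hp
  haveI : CharZero F := charZero_of_injective_algebraMap (algebraMap K F).injective
  have hcst : ∀ s t, ∃ c : kˣ, (g s : Matrix (Fin m) (Fin m) F) * (s • (g t : Matrix (Fin m) (Fin m) F)) =
      algebraMap k F c • (g (s * t) : Matrix (Fin m) (Fin m) F) := by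
    intro s t
    let A : GL (Fin m) F := g s * s • g t * (g (s * t))⁻¹
    have hA : ∀ d, (A : Matrix (Fin m) (Fin m) F) * ρ d = ρ d * A := by
      intro d
      have h1 := hconj (s * t) d
      have h2 : ρ d = ((g (s * t) : GL (Fin m) F) : Matrix (Fin m) (Fin m) F) * ((s * t) • ρ d) *
          (((g (s * t))⁻¹ : GL (Fin m) F) : Matrix (Fin m) (Fin m) F) := by
        rw [h1, mul_assoc, Units.mul_inv, mul_one]
      conv_lhs => rw [h2]
      have h3 := congrArg (fun X => s • X) (hconj t d)
      simp only [smul_mul'] at h3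
      simp only [A, Units.val_mul, CSADescent.smul_val, mul_assoc, Units.inv_mul_cancel_left]
      rw [← mul_assoc (s • (g t : Matrix (Fin m) (Fin m) F)), mul_smul, h3, mul_assoc,
        ← mul_assoc (g s : Matrix (Fin m) (Fin m) F), hconj s d, mul_assoc]
    have hcomm : ∀ X, (A : Matrix (Fin m) (Fin m) F) * X = X * A := by
      intro X
      induction hspan X using Submodule.span_induction with
      | mem z hz => obtain ⟨d, rfl⟩ := hz; exact hA d
      | zero => simp
      | add p q _ _ hp hq => rw [mul_add, add_mul, hp, hq]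
      | smul a p _ hp => rw [mul_smul_comm, smul_mul_assoc, hp]
    have hsc := matrix_scalar_of_commute (A : Matrix (Fin m) (Fin m) F) hcomm
    set a := (A : Matrix (Fin m) (Fin m) F) (Classical.arbitrary _) (Classical.arbitrary _) with ha
    have hm : (g s : Matrix (Fin m) (Fin m) F) * (s • (g t : Matrix (Fin m) (Fin m) F)) =
        a • (g (s * t) : Matrix (Fin m) (Fin m) F) := by
      have h4 : ((A * g (s * t) : GL (Fin m) F) : Matrix (Fin m) (Fin m) F) =
          (g s : Matrix (Fin m) (Fin m) F) * (s • (g t : Matrix (Fin m) (Fin m) F)) := by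
        simp [A, CSADescent.smul_val]
      rw [← h4, Units.val_mul, hsc, smul_mul_assoc, one_mul]
    have hdet := congrArg Matrix.det hm
    rw [Matrix.det_mul, Matrix.det_smul, hgdet, hgdet, Fintype.card_fin, mul_one, one_mul,
      show (s • (g t : Matrix (Fin m) (Fin m) F)).det = s (g t : Matrix (Fin m) (Fin m) F).det from
        ((s : F →+* F).map_det _).symm, hgdet, map_one] at hdet
    haveI : NeZero (m : k) := ⟨Nat.cast_ne_zero.2 hm0⟩
    haveI : NeZero m := ⟨hm0⟩
    obtain ⟨ζ, hζ⟩ := HasEnoughRootsOfUnity.exists_primitiveRoot k m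
    obtain ⟨i, -, hi⟩ := (hζ.map_of_injective (algebraMap k F).injective).eq_pow_of_pow_eq_one hdet.symm
    refine ⟨Units.mk0 (ζ ^ i) (pow_ne_zero _ (hζ.ne_zero hm0)), ?_⟩
    rw [hm, Units.val_mk0, map_pow, hi]
  choose c hc using hcst
  exact ⟨F, inferInstance, algkF, inferInstance, algEF, inferInstance, inferInstance, inferInstance,
    inferInstance, m, ρ, g, c, Nat.pos_of_ne_zero hm0, hdim, hconj, hc⟩

/-- A finite Galois extension of `K` containing `E` over which `D` has a descent datum by matrices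
of determinant one, whose cocycle defect takes values in `k`. -/
theorem exists_datum (k K : Type u) [Field k] [IsAlgClosed k] [CharZero k] [Field K] [Algebra k K]
    (E : Type u) [Field E] [Algebra K E] [FiniteDimensional K E]
    (D : Type u) [DivisionRing D] [Algebra E D] [Algebra.IsCentral E D] [FiniteDimensional E D] :
    ∃ (F : Type u) (_ : Field F) (_ : Algebra k F) (_ : Algebra K F) (_ : Algebra E F)
      (_ : IsScalarTower k K F) (_ : IsScalarTower K E F) (_ : FiniteDimensional K F) (_ : IsGalois K F)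
      (m : ℕ) (ρ : D →ₐ[E] Matrix (Fin m) (Fin m) F) (g : (F ≃ₐ[E] F) → GL (Fin m) F)
      (c : (F ≃ₐ[E] F) → (F ≃ₐ[E] F) → kˣ),
      0 < m ∧ Module.finrank E D = m * m ∧
      (∀ s d, (g s : Matrix (Fin m) (Fin m) F) * (s • ρ d) = ρ d * (g s : Matrix (Fin m) (Fin m) F)) ∧
      ∀ s t, (g s : Matrix (Fin m) (Fin m) F) * (s • (g t : Matrix (Fin m) (Fin m) F)) =
        algebraMap k F (c s t) • (g (s * t) : Matrix (Fin m) (Fin m) F) := by
  obtain ⟨F₁, hfin₁, hgal₁, m, hm0, ⟨φ⟩⟩ := CSALib.exists_galois_splitting (k := E) (A := D)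
  haveI := hfin₁
  haveI := hgal₁
  exact exists_datum_aux k K E D F₁ m hm0 φ

end Groth.Agent.H13Lib
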