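import Mathlib
import Groth.Prelude.Def_ConstAct2
import Groth.Prelude.Def_Red

/-!
# Isomorphisms after base change and algebraic generators
-/

set_option autoImplicit false
set_option backward.isDefEq.respectTransparency false
set_option backward.isDefEq.respectTransparency.types false
set_option linter.style.haveILetI false

universe u

open CategoryTheory CategoryTheory.Limits AlgebraicGeometry Opposite
open scoped TensorProduct

noncomputable section

namespace Groth.Agent.H13Lib

theorem mem_adjoin_of_bc_iso {K L L₀ F : Type u} [Field K] [Field L] [Field L₀] [Field F]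
    [Algebra K L] [Algebra L₀ L] [Algebra K F] [FiniteDimensional K F]
    (X₀ : Over (Spec (CommRingCat.of L₀)))
    (e : Red.bc (Spec.map (CommRingCat.ofHom (algebraMap L₀ L))) X₀ ≅
      Red.bc (Spec.map (CommRingCat.ofHom (algebraMap K L))) (ConstAct.X K F))
    (Ω : Type u) [Field Ω] [Algebra L Ω] (π : F →+* Ω)
    (hπ : π.comp (algebraMap K F) = (algebraMap L Ω).comp (algebraMap K L)) (x : F) :
    π x ∈ Algebra.adjoin L {y : Ω | ((algebraMap L Ω).comp (algebraMap L₀ L)).IsIntegralElem y} := by
  let g := Spec.map (CommRingCat.ofHom (algebraMap L₀ L))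
  let g' := Spec.map (CommRingCat.ofHom (algebraMap K L))
  let sF := Spec.map (CommRingCat.ofHom (algebraMap K F))
  let sL := Spec.map (CommRingCat.ofHom (algebraMap L Ω))
  let eh : pullback X₀.hom g ⟶ pullback sF g' := e.hom.left
  let ei : pullback sF g' ⟶ pullback X₀.hom g := e.inv.left
  have hie : ei ≫ eh = 𝟙 _ := congrArg CommaMorphism.left e.inv_hom_id
  have hei : ei ≫ pullback.snd _ _ = pullback.snd _ _ := Over.w e.inv
  have heh : eh ≫ pullback.snd _ _ = pullback.snd _ _ := Over.w e.hom
  haveI : IsIso eh := inferInstanceAs (IsIso ((Over.forget _).map e.hom))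
  let w : Spec (CommRingCat.of Ω) ⟶ pullback sF g' :=
    pullback.lift (Spec.map (CommRingCat.ofHom π)) sL (by
      simp only [sF, g', sL, ← Spec.map_comp, ← CommRingCat.ofHom_comp, hπ])
  let q := w ≫ ei
  have hq : q ≫ pullback.snd _ _ = sL := by
    simp only [q, Category.assoc, hei, w, pullback.lift_snd]
  let o : ↥(Spec (CommRingCat.of Ω)) := IsLocalRing.closedPoint Ω
  obtain ⟨U, hU, hx₀, -⟩ := exists_isAffineOpen_mem_and_subset
    (show (q ≫ pullback.fst _ _) o ∈ (⊤ : X₀.left.Opens) from trivial)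
  let R : Type u := Γ(X₀.left, U)
  let φ : CommRingCat.of L₀ ⟶ CommRingCat.of R := Spec.preimage (hU.fromSpec ≫ X₀.hom)
  letI : Algebra L₀ R := φ.hom.toAlgebra
  have hφ : Spec.map (CommRingCat.ofHom (algebraMap L₀ R)) = hU.fromSpec ≫ X₀.hom :=
    Spec.map_preimage _
  let inl : R →+* R ⊗[L₀] L := (Algebra.TensorProduct.includeLeft : R →ₐ[L₀] R ⊗[L₀] L).toRingHom
  let inr : L →+* R ⊗[L₀] L := (Algebra.TensorProduct.includeRight : L →ₐ[L₀] R ⊗[L₀] L).toRingHom
  let jR : pullback (hU.fromSpec ≫ X₀.hom) g ⟶ pullback X₀.hom g :=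
    pullback.map _ _ _ _ hU.fromSpec (𝟙 _) (𝟙 _) (Category.comp_id _) (by simp)
  let ι : Spec (CommRingCat.of (R ⊗[L₀] L)) ≅ pullback (hU.fromSpec ≫ X₀.hom) g :=
    (pullbackSpecIso L₀ R L).symm ≪≫ pullback.congrHom hφ rfl
  let j := ι.hom ≫ jR
  have hι1 : ι.hom ≫ pullback.fst (hU.fromSpec ≫ X₀.hom) g = Spec.map (CommRingCat.ofHom inl) := by
    rw [Iso.trans_hom, Iso.symm_hom, pullback.congrHom_hom, Category.assoc]
    erw [pullback.lift_fst]
    rw [Category.comp_id]
    exact pullbackSpecIso_inv_fst L₀ R L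
  have hι2 : ι.hom ≫ pullback.snd (hU.fromSpec ≫ X₀.hom) g = Spec.map (CommRingCat.ofHom inr) := by
    rw [Iso.trans_hom, Iso.symm_hom, pullback.congrHom_hom, Category.assoc]
    erw [pullback.lift_snd]
    rw [Category.comp_id]
    exact pullbackSpecIso_inv_snd L₀ R L
  have hj1 : j ≫ pullback.fst _ _ = Spec.map (CommRingCat.ofHom inl) ≫ hU.fromSpec := by
    rw [← hι1, Category.assoc, Category.assoc]
    congr 1
    exact pullback.lift_fst _ _ _
  have hj2 : j ≫ pullback.snd _ _ = Spec.map (CommRingCat.ofHom inr) := by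
    rw [← hι2, Category.assoc]
    congr 1
    exact (pullback.lift_snd _ _ _).trans (Category.comp_id _)
  haveI : IsOpenImmersion j := inferInstance
  -- the ring of the affine piece is finite
  haveI : IsFinite sF := by
    rw [IsFinite.SpecMap_iff]
    exact RingHom.finite_algebraMap.2 inferInstance
  haveI : IsFinite (pullback.snd X₀.hom g) := by
    rw [← heh]
    infer_instance
  haveI : DiscreteTopology ↥(pullback X₀.hom g) := by
    haveI : IsLocallyArtinian (pullback X₀.hom g) :=
      IsLocallyArtinian.of_locallyQuasiFinite (pullback.snd X₀.hom g)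
    infer_instance
  haveI : IsClosedImmersion j := IsClosedImmersion.of_isPreimmersion j (isClosed_discrete _)
  haveI : IsFinite (Spec.map (CommRingCat.ofHom inr)) := by
    rw [← hj2]
    infer_instance
  haveI : Module.Finite L₀ R := by
    have h1 : inr.Finite := (IsFinite.SpecMap_iff _).1 ‹_›
    haveI : Module.Finite L (L ⊗[L₀] R) := by
      rw [← RingHom.finite_algebraMap]
      have h2 : algebraMap L (L ⊗[L₀] R) = (Algebra.TensorProduct.comm L₀ R L).toAlgHom.toRingHom.comp inr := by
        ext l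
        simp [inr]
      rw [h2]
      exact (RingHom.Finite.of_surjective _ (Algebra.TensorProduct.comm L₀ R L).surjective).comp h1
    exact Module.Finite.of_finite_tensorProduct_of_faithfullyFlat L
  -- the point
  have hr : Set.range (q ≫ pullback.fst _ _) ⊆ Set.range hU.fromSpec := by
    haveI : Subsingleton ↥(Spec (CommRingCat.of Ω)) := inferInstanceAs (Subsingleton (PrimeSpectrum Ω))
    rw [hU.range_fromSpec]
    rintro _ ⟨p, rfl⟩
    rw [Subsingleton.elim p o]
    exact hx₀
  let χ₁ := Spec.preimage (IsOpenImmersion.lift hU.fromSpec (q ≫ pullback.fst _ _) hr)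
  have hχ₁ : Spec.map χ₁ ≫ hU.fromSpec = q ≫ pullback.fst _ _ := by
    rw [Spec.map_preimage, IsOpenImmersion.lift_fac]
  letI : Algebra L₀ Ω := ((algebraMap L Ω).comp (algebraMap L₀ L)).toAlgebra
  have hc : χ₁.hom.comp (algebraMap L₀ R) = (algebraMap L Ω).comp (algebraMap L₀ L) := by
    have h : Spec.map (CommRingCat.ofHom (χ₁.hom.comp (algebraMap L₀ R))) =
        Spec.map (CommRingCat.ofHom ((algebraMap L Ω).comp (algebraMap L₀ L))) := by
      rw [CommRingCat.ofHom_comp, CommRingCat.ofHom_comp, Spec.map_comp, Spec.map_comp, hφ]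
      change Spec.map χ₁ ≫ hU.fromSpec ≫ X₀.hom = sL ≫ g
      rw [reassoc_of% hχ₁, pullback.condition, ← reassoc_of% hq]
    exact congrArg CommRingCat.Hom.hom (Spec.map_injective h)
  let χA : R →ₐ[L₀] Ω := { χ₁.hom with commutes' := fun r => RingHom.congr_fun hc r }
  let LA : L →ₐ[L₀] Ω := { algebraMap L Ω with commutes' := fun _ => rfl }
  let χ : R ⊗[L₀] L →ₐ[L₀] Ω := Algebra.TensorProduct.lift χA LA fun _ _ => .all _ _
  have hl : χ.toRingHom.comp inl = χ₁.hom := by
    ext r
    show χ (r ⊗ₜ[L₀] (1 : L)) = χ₁.hom r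
    simp [χ, χA, LA]
    rfl
  have hr' : χ.toRingHom.comp inr = algebraMap L Ω := by
    ext l
    show χ ((1 : R) ⊗ₜ[L₀] l) = algebraMap L Ω l
    simp [χ, χA, LA]
  have hqj : q = Spec.map (CommRingCat.ofHom χ.toRingHom) ≫ j := by
    apply pullback.hom_ext
    · show q ≫ pullback.fst _ _ = _
      rw [Category.assoc (Spec.map _) j (pullback.fst _ _), hj1, ← Spec.map_comp_assoc, ← CommRingCat.ofHom_comp, hl, ← hχ₁]
      rfl
    · show q ≫ pullback.snd _ _ = _
      rw [Category.assoc (Spec.map _) j (pullback.snd _ _), hj2, ← Spec.map_comp, ← CommRingCat.ofHom_comp, hr', hq]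
  let hh := Spec.preimage (j ≫ eh ≫ pullback.fst sF g')
  have hπx : π x = χ (hh.hom x) := by
    have h : Spec.map (CommRingCat.ofHom π) = Spec.map (CommRingCat.ofHom (χ.toRingHom.comp hh.hom)) := by
      rw [CommRingCat.ofHom_comp, Spec.map_comp, CommRingCat.ofHom_hom, Spec.map_preimage,
        ← reassoc_of% hqj]
      simp only [q, Category.assoc, reassoc_of% hie, w, pullback.lift_fst]
    exact RingHom.congr_fun (congrArg CommRingCat.Hom.hom (Spec.map_injective h)) x
  rw [hπx]
  generalize hh.hom x = t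
  induction t using TensorProduct.induction_on with
  | zero => rw [map_zero]; exact zero_mem _
  | tmul r l =>
    rw [show χ (r ⊗ₜ[L₀] l) = χA r * algebraMap L Ω l from rfl]
    refine mul_mem (Algebra.subset_adjoin ?_) (Subalgebra.algebraMap_mem _ _)
    exact (Algebra.IsIntegral.isIntegral (R := L₀) r).map χA
  | add a b ha hb => rw [map_add]; exact add_mem ha hb

end Groth.Agent.H13Lib
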