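import Mathlib
import Groth.Prelude.Def_ConstAct2
import Groth.Prelude.Def_NonAbH2
import Groth.Prelude.Def_ActBC
import Groth.Prelude.Def_SekSuwa
import Groth.Agent.TorusField.Bridge
import Groth.Agent.CSADescent.Basic

/-!
# The torsor of a finite Galois extension under the constant group
-/

set_option autoImplicit false
set_option backward.isDefEq.respectTransparency false
set_option backward.isDefEq.respectTransparency.types false
set_option linter.style.haveILetI false

universe u

open CategoryTheory CategoryTheory.Limits MonoidalCategory CartesianMonoidalCategory MonObj GrpObj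
  AlgebraicGeometry Opposite
open scoped TensorProduct

noncomputable section

local instance braidedAlgSpecOf' (R : Type u) [CommRing R] : (algSpec (CommRingCat.of R)).Braided :=
  braidedAlgSpec

namespace Groth.Agent.H13Lib

variable (k K : Type u) [Field k] [Field K] [Algebra k K] (G : Type u) [Group G] [Fintype G] [DecidableEq G]

local instance algFun : Algebra k (ConstGrp.F K G) := inferInstanceAs (Algebra k (G → K))

local instance towerFun : IsScalarTower k K (ConstGrp.F K G) := inferInstanceAs (IsScalarTower k K (G → K))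

/-- Base change of the functions on a finite group. -/
def bcFun : K ⊗[k] ConstGrp.F k G →ₐ[K] ConstGrp.F K G :=
  Algebra.TensorProduct.lift (Algebra.ofId K _)
    { toFun := fun f g => algebraMap k K (f g)
      map_one' := by ext g; simp
      map_mul' := fun f f' => by ext g; simp
      map_zero' := by ext g; simp
      map_add' := fun f f' => by ext g; simp
      commutes' := fun r => by ext g; simp [IsScalarTower.algebraMap_apply k K (ConstGrp.F K G)] }
    fun _ _ => .all _ _

theorem bcFun_tmul_e (g : G) : bcFun k K G (1 ⊗ₜ ConstGrp.e k g) = ConstGrp.e K g := by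
  ext h
  simp [bcFun, ConstGrp.e_apply, apply_ite (algebraMap k K)]

theorem bcFun_bijective : Function.Bijective (bcFun k K G) := by
  let b := Algebra.TensorProduct.basis K (ConstGrp.basis k G)
  have e : (bcFun k K G).toLinearMap = (b.equiv (ConstGrp.basis K G) (Equiv.refl G)).toLinearMap := by
    refine b.ext fun g => ?_
    rw [AlgHom.toLinearMap_apply, LinearEquiv.coe_coe, Module.Basis.equiv_apply]
    simp only [b, Algebra.TensorProduct.basis_apply, ConstGrp.basis_apply, bcFun_tmul_e, Equiv.refl_apply]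
  have h : (bcFun k K G : K ⊗[k] ConstGrp.F k G → ConstGrp.F K G) = b.equiv (ConstGrp.basis K G) (Equiv.refl G) :=
    congrArg DFunLike.coe e
  rw [h]
  exact LinearEquiv.bijective _

theorem bcFun_ext {B : Type u} [CommRing B] [Algebra K B] {φ ψ : K ⊗[k] ConstGrp.F k G →ₐ[K] B}
    (h : ∀ g, φ (1 ⊗ₜ ConstGrp.e k g) = ψ (1 ⊗ₜ ConstGrp.e k g)) : φ = ψ := by
  refine AlgHom.toLinearMap_injective ((Algebra.TensorProduct.basis K (ConstGrp.basis k G)).ext fun g => ?_)
  simpa using h g

/-- As a bialgebra equivalence. -/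
def bcFunEquiv : K ⊗[k] ConstGrp.F k G ≃ₐc[K] ConstGrp.F K G :=
  BialgEquiv.ofAlgEquiv (AlgEquiv.ofBijective (bcFun k K G) (bcFun_bijective k K G))
    (bcFun_ext k K G fun g => by
      show Coalgebra.counit (R := K) (bcFun k K G (1 ⊗ₜ ConstGrp.e k g)) = Coalgebra.counit (R := K) ((1 : K) ⊗ₜ[k] ConstGrp.e k g)
      rw [bcFun_tmul_e, ConstGrp.counit_e]
      rw [TensorProduct.counit_tmul, ConstGrp.counit_apply, ConstGrp.e_apply]
      split_ifs with h1 <;> simp_all)
    (bcFun_ext k K G fun g => by
      show Algebra.TensorProduct.map (bcFun k K G) (bcFun k K G)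
          (Coalgebra.comul (R := K) ((1 : K) ⊗ₜ[k] ConstGrp.e k g)) =
        Coalgebra.comul (bcFun k K G (1 ⊗ₜ ConstGrp.e k g))
      rw [bcFun_tmul_e, ConstGrp.comul_e, TensorProduct.comul_tmul, ConstGrp.comul_e,
        TensorProduct.tmul_sum, map_sum, map_sum]
      refine Finset.sum_congr rfl fun a _ => ?_
      simp [bcFun_tmul_e])

/-- The base change of the constant group is the constant group. -/
def bcConst : Grp.mk (Red.bc (Spec.map (CommRingCat.ofHom (algebraMap k K))) (ConstAct.GR k G)) ≅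
    TorusField.specGrp K (ConstGrp.F K G) :=
  TorusField.bcSpecIso k K (ConstGrp.F k G) ≪≫ (TorusField.specIso (bcFunEquiv k K G)).symm

variable (F : Type u) [Field F] [Algebra K F] [FiniteDimensional K F] [DecidableEq (F ≃ₐ[K] F)]

/-- The Galois map. -/
def galMap : F ⊗[K] F →ₐ[K] ConstGrp.F K (F ≃ₐ[K] F) ⊗[K] F :=
  Algebra.TensorProduct.lift
    ((Algebra.TensorProduct.lift (Algebra.TensorProduct.includeRight : F →ₐ[K] _)
      ((Algebra.TensorProduct.includeLeft : ConstGrp.F K (F ≃ₐ[K] F) →ₐ[K] _).comp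
        (HopfAlgebra.antipodeAlgHom K (ConstGrp.F K (F ≃ₐ[K] F))))
      fun _ _ => .all _ _).comp
      (letI := ConstAct.comod K F (F ≃ₐ[K] F); haveI := ConstAct.isCoactAlg K F (F ≃ₐ[K] F);
        GLin.coactAlgHom K (ConstGrp.F K (F ≃ₐ[K] F)) F))
    Algebra.TensorProduct.includeRight fun _ _ => .all _ _

variable [IsGalois K F]

omit [IsGalois K F] in
theorem galMap_tmul (a b : F) :
    galMap K F (a ⊗ₜ b) = ∑ g : F ≃ₐ[K] F, ConstGrp.e K g⁻¹ ⊗ₜ[K] (g a * b) := by
  simp only [galMap, Algebra.TensorProduct.lift_tmul, AlgHom.comp_apply]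
  change Algebra.TensorProduct.lift _ _ _ (ConstAct.coactLin K F (F ≃ₐ[K] F) a) * _ = _
  rw [ConstAct.coactLin_apply, map_sum, Finset.sum_mul]
  refine Finset.sum_congr rfl fun g _ => ?_
  rw [Algebra.TensorProduct.lift_tmul, Algebra.TensorProduct.includeRight_apply, AlgHom.comp_apply,
    HopfAlgebra.antipodeAlgHom_apply, ConstGrp.antipode_e, Algebra.TensorProduct.includeLeft_apply,
    Algebra.TensorProduct.tmul_mul_tmul, Algebra.TensorProduct.includeRight_apply,
    Algebra.TensorProduct.tmul_mul_tmul]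
  simp only [_root_.one_mul, _root_.mul_one]
  rfl

theorem galMap_bijective : Function.Bijective (galMap K F) := by
  classical
  let G := F ≃ₐ[K] F
  let θ : ConstGrp.F K G ⊗[K] F →ₗ[K] (G → F) :=
    TensorProduct.lift (LinearMap.mk₂ K (fun (f : ConstGrp.F K G) (x : F) (g : G) => f g • x)
      (fun f f' x => by ext g; simp [add_smul]) (fun c f x => by ext g; simp [mul_smul])
      (fun f x y => by ext g; simp) (fun c f x => by funext g; exact smul_comm _ _ _))
  have hθ : ∀ f x g, θ (f ⊗ₜ x) g = f g • x := fun _ _ _ => rfl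
  have hcomp : ∀ a b g, θ (galMap K F (a ⊗ₜ b)) g = g⁻¹ a * b := by
    intro a b g
    rw [galMap_tmul, map_sum, Finset.sum_apply, Finset.sum_eq_single g⁻¹]
    · rw [hθ, ConstGrp.e_apply, if_pos (_root_.inv_inv g).symm, one_smul]
    · intro h _ hh
      rw [hθ, ConstGrp.e_apply, if_neg fun e => hh (by rw [e, _root_.inv_inv]), zero_smul]
    · exact fun h => absurd (Finset.mem_univ _) h
  have hd : Module.finrank K (F ⊗[K] F) = Module.finrank K (G → F) := by
    rw [Module.finrank_tensorProduct, Module.finrank_pi_fintype K, Finset.sum_const, Finset.card_univ,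
      smul_eq_mul, ← Nat.card_eq_fintype_card, IsGalois.card_aut_eq_finrank]
  have hd' : Module.finrank K (F ⊗[K] F) = Module.finrank K (ConstGrp.F K G ⊗[K] F) := by
    rw [Module.finrank_tensorProduct, Module.finrank_tensorProduct,
      Module.finrank_eq_card_basis (ConstGrp.basis K G), ← Nat.card_eq_fintype_card,
      IsGalois.card_aut_eq_finrank]
  suffices hs : Function.Surjective (θ ∘ₗ (galMap K F).toLinearMap) by
    have hi : Function.Injective (θ ∘ₗ (galMap K F).toLinearMap) :=
      (LinearMap.injective_iff_surjective_of_finrank_eq_finrank hd).2 hs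
    have hgi : Function.Injective (galMap K F).toLinearMap := Function.Injective.of_comp hi
    exact ⟨hgi, (LinearMap.injective_iff_surjective_of_finrank_eq_finrank
      (f := (galMap K F).toLinearMap) hd').1 hgi⟩
  let Lm := θ ∘ₗ (galMap K F).toLinearMap
  have hsmul : ∀ (x : F) (t : F ⊗[K] F), Lm (((1 : F) ⊗ₜ[K] x) * t) = x • Lm t := by
    intro x t
    induction t using TensorProduct.induction_on with
    | zero => simp
    | tmul a b =>
      funext g
      rw [Algebra.TensorProduct.tmul_mul_tmul, _root_.one_mul]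
      show θ (galMap K F (a ⊗ₜ (x * b))) g = x * θ (galMap K F (a ⊗ₜ b)) g
      rw [hcomp, hcomp]
      ring
    | add p q hp hq => rw [mul_add, map_add, map_add, hp, hq, smul_add]
  let R : Submodule F (G → F) :=
    { carrier := Set.range Lm
      add_mem' := by rintro _ _ ⟨p, rfl⟩ ⟨q, rfl⟩; exact ⟨p + q, map_add _ _ _⟩
      zero_mem' := ⟨0, map_zero _⟩
      smul_mem' := by rintro x _ ⟨p, rfl⟩; exact ⟨_, hsmul x p⟩ }
  have hR : R = ⊤ := by
    by_contra hne
    obtain ⟨φ, hφ0, hφ⟩ := Submodule.exists_le_ker_of_lt_top _ (lt_top_iff_ne_top.2 hne)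
    refine hφ0 (LinearMap.pi_ext' fun g => LinearMap.ext_ring ?_)
    have hz := Groth.Agent.CSADescent.eq_zero_of_sum_mul (k := K) (K := F)
      (fun s : G => φ (Pi.single s⁻¹ 1)) fun a => ?_
    · have hg := congrFun hz g⁻¹
      rw [show (g⁻¹ : G)⁻¹ = g from _root_.inv_inv g] at hg
      simpa using hg
    · have h0 : φ (Lm (a ⊗ₜ 1)) = 0 := hφ ⟨_, rfl⟩
      rw [pi_eq_sum_univ' (Lm (a ⊗ₜ 1)), map_sum, ← Equiv.sum_comp (Equiv.inv G)] at h0
      rw [← h0]
      refine Finset.sum_congr rfl fun s _ => ?_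
      rw [map_smul, smul_eq_mul]
      show _ = θ (galMap K F (a ⊗ₜ 1)) s⁻¹ * φ (Pi.single s⁻¹ 1)
      rw [hcomp, _root_.inv_inv, _root_.mul_one]
      exact mul_comm _ _
  intro v
  exact (show v ∈ R from hR ▸ trivial)

/-- The Galois action. -/
abbrev galAction : AlgGrp.Action (ConstAct.GR K (F ≃ₐ[K] F)) (ConstAct.X K F) :=
  ConstAct.gaction K F (F ≃ₐ[K] F)

theorem isPseudoTorsor_galAction : NonAbH1.IsPseudoTorsorSch (galAction K F) := by
  classical
  let A := ConstGrp.F K (F ≃ₐ[K] F)
  let inl : A →ₐ[K] A ⊗[K] F := Algebra.TensorProduct.includeLeft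
  let inr : F →ₐ[K] A ⊗[K] F := Algebra.TensorProduct.includeRight
  let w : CoactBr.sp K (A ⊗[K] F) ⟶ ConstAct.GR K (F ≃ₐ[K] F) ⊗ ConstAct.X K F :=
    lift (CoactBr.pt inl) (CoactBr.pt inr)
  have hw : w ≫ Functor.LaxMonoidal.μ (algSpec (CommRingCat.of K)) (op (.of K A)) (op (.of K F)) =
      𝟙 (CoactBr.sp K (A ⊗[K] F)) := by
    rw [CoactBr.lift_pt_pt, ← CoactBr.pt_id]
    congr 1
    exact Algebra.TensorProduct.ext' fun a b => by simp [inl, inr, A]
  haveI : IsIso w := by
    haveI : IsIso (w ≫ Functor.LaxMonoidal.μ (algSpec (CommRingCat.of K)) (op (.of K A)) (op (.of K F))) := by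
      rw [hw]
      exact IsIso.id _
    exact IsIso.of_isIso_comp_right w
      (Functor.LaxMonoidal.μ (algSpec (CommRingCat.of K)) (op (.of K A)) (op (.of K F)))
  have key : (w ≫ lift (galAction K F).act (snd _ _)) ≫
      Functor.LaxMonoidal.μ (algSpec (CommRingCat.of K)) (op (.of K F)) (op (.of K F)) =
      CoactBr.pt (galMap K F) := by
    letI := ConstAct.comod K F (F ≃ₐ[K] F)
    haveI := ConstAct.isCoactAlg K F (F ≃ₐ[K] F)
    rw [comp_lift, lift_snd, galAction, ConstAct.gaction_eq, CoactBr.lift_pt_action_act, CoactBr.lift_pt_pt]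
    rfl
  haveI : IsIso (CoactBr.pt (galMap K F)) := by
    let e := AlgEquiv.ofBijective (galMap K F) (galMap_bijective K F)
    refine ⟨CoactBr.pt (e.symm : _ →ₐ[K] _), ?_, ?_⟩
    · rw [← CoactBr.pt_comp, ← CoactBr.pt_id]
      congr 1
      exact AlgHom.ext fun x => e.apply_symm_apply x
    · rw [← CoactBr.pt_comp, ← CoactBr.pt_id]
      congr 1
      exact AlgHom.ext fun x => e.symm_apply_apply x
  haveI : IsIso ((w ≫ lift (galAction K F).act (snd _ _)) ≫
      Functor.LaxMonoidal.μ (algSpec (CommRingCat.of K)) (op (.of K F)) (op (.of K F))) := by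
    rw [key]
    infer_instance
  haveI : IsIso (w ≫ lift (galAction K F).act (snd _ _)) :=
    IsIso.of_isIso_comp_right _
      (Functor.LaxMonoidal.μ (algSpec (CommRingCat.of K)) (op (.of K F)) (op (.of K F)))
  exact IsIso.of_isIso_comp_left w (lift (galAction K F).act (snd _ _))

theorem isPseudoTorsor_restrict {S : Scheme.{u}} {H G X : Over S} [GrpObj H] [GrpObj G]
    (a : AlgGrp.Action G X) (ha : NonAbH1.IsPseudoTorsorSch a) (φ : H ⟶ G) [IsMonHom φ] [IsIso φ] :
    NonAbH1.IsPseudoTorsorSch (a.restrict φ) := by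
  haveI : IsIso (lift a.act (snd G X)) := ha
  have e : lift (a.restrict φ).act (snd H X) = (φ ▷ X) ≫ lift a.act (snd G X) := by
    rw [AlgGrp.Action.restrict_act, comp_lift, whiskerRight_snd]
  show IsIso _
  rw [e]
  infer_instance

theorem isLocallyTrivial_spec : NonAbH1.IsLocallyTrivialFor Scheme.etalePrecoverage (ConstAct.X K F) := by
  haveI : Etale (Spec.map (CommRingCat.ofHom (algebraMap K F))) := by
    rw [HasRingHomProperty.Spec_iff (P := @Etale)]
    haveI : Algebra.FinitePresentation K F :=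
      Algebra.FinitePresentation.of_finiteType.1 inferInstance
    haveI : Algebra.Etale K F := ⟨(Algebra.FormallyEtale.iff_isSeparable K F).2 inferInstance, inferInstance⟩
    exact RingHom.etale_algebraMap.2 ‹_›
  haveI : Surjective (Spec.map (CommRingCat.ofHom (algebraMap K F))) := ⟨fun x => by
    haveI : Subsingleton ↥(Spec (CommRingCat.of K)) := inferInstanceAs (Subsingleton (PrimeSpectrum K))
    obtain ⟨y⟩ : Nonempty ↥(Spec (CommRingCat.of F)) := inferInstanceAs (Nonempty (PrimeSpectrum F))
    exact ⟨y, Subsingleton.elim _ _⟩⟩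
  refine ⟨Presieve.singleton (Spec.map (CommRingCat.ofHom (algebraMap K F))), ?_, ?_⟩
  · rw [Scheme.etalePrecoverage, Scheme.singleton_mem_precoverage_iff]
    exact ⟨Scheme.Hom.surjective _, inferInstance⟩
  · intro S' f hf
    obtain ⟨⟩ := hf
    exact ⟨𝟙 _, Category.id_comp _⟩

variable [Algebra k F]

/-- The torsor of a finite Galois extension. -/
def galTorsor : NonAbH1.TorsorSch
    (Red.bc (Spec.map (CommRingCat.ofHom (algebraMap k K))) (ConstAct.GR k (F ≃ₐ[K] F)))
    Scheme.etalePrecoverage :=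
  haveI : IsMonHom (bcConst k K (F ≃ₐ[K] F)).hom.hom.hom := inferInstance
  haveI : IsIso (bcConst k K (F ≃ₐ[K] F)).hom.hom.hom :=
    inferInstanceAs (IsIso ((Grp.forget _).map (bcConst k K (F ≃ₐ[K] F)).hom))
  { X := ConstAct.X K F
    act := AlgGrp.Action.restrict (bcConst k K (F ≃ₐ[K] F)).hom.hom.hom (galAction K F)
    isTorsor := ⟨isPseudoTorsor_restrict _ (isPseudoTorsor_galAction K F) _, isLocallyTrivial_spec K F⟩ }

instance isFinite_GR : IsFinite (ConstAct.GR k G).hom := by
  change IsFinite (Spec.map (CommRingCat.ofHom (algebraMap k (ConstGrp.F k G))))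
  rw [IsFinite.SpecMap_iff]
  exact RingHom.finite_algebraMap.2 inferInstance

end Groth.Agent.H13Lib
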