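import Mathlib
import Groth.Agent.H13Lib.Data
import Groth.Agent.H13Lib.Torsor
import Groth.Agent.H13Lib.Descend
import Groth.Prelude.Def_NonAbH2
import Groth.Prelude.Def_ActBC

/-!
# Brauer classes are killed where torsors descend to transcendence degree one
-/

set_option autoImplicit false
set_option linter.style.haveILetI false
set_option maxHeartbeats 1000000
set_option synthInstance.maxHeartbeats 200000

universe u

open CategoryTheory AlgebraicGeometry
open scoped TensorProduct MatrixGroups
attribute [local instance] CSAGal.matrixAction GpH1.unitsAction CSAGal.pglAction CSAGal.tensorAction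

noncomputable section

namespace Groth.Agent.H13Lib

/-- The algebraic core: a descent datum whose cocycle is constant, and generators algebraic over a
field of transcendence degree at most one, give a splitting. -/
theorem split_of_generated (k : Type u) [Field k] [IsAlgClosed k] {E : Type u} [Field E]
    (D : Type u) [Ring D] [Algebra E D] [Algebra.IsCentral E D] [IsSimpleRing D]
    (F : Type u) [Field F] [Algebra E F] [Algebra k F] (m : ℕ) (hm : 0 < m)
    (hdim : Module.finrank E D = m * m) (ρ : D →ₐ[E] Matrix (Fin m) (Fin m) F)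
    (g : (F ≃ₐ[E] F) → GL (Fin m) F) (c : (F ≃ₐ[E] F) → (F ≃ₐ[E] F) → kˣ)
    (hkF : ∀ (s : F ≃ₐ[E] F) (z : k), s (algebraMap k F z) = algebraMap k F z)
    (hρ : ∀ s d, (g s : Matrix (Fin m) (Fin m) F) * (s • ρ d) = ρ d * (g s : Matrix (Fin m) (Fin m) F))
    (hg : ∀ s t, (g s : Matrix (Fin m) (Fin m) F) * (s • (g t : Matrix (Fin m) (Fin m) F)) =
        algebraMap k F (c s t) • (g (s * t) : Matrix (Fin m) (Fin m) F))
    (M : Type u) [Field M] [Algebra E M] (N : Type u) [Field N] [Algebra M N] [Algebra E N]
    [IsScalarTower E M N] [FiniteDimensional M N] [IsGalois M N]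
    [Algebra F N] [IsScalarTower E F N] [Normal E F]
    (L₀ : Type u) [Field L₀] [Algebra k L₀] [Algebra L₀ M] [Algebra L₀ N] [IsScalarTower L₀ M N]
    [Algebra k N] [IsScalarTower k L₀ N] [IsScalarTower k F N]
    (htr : Algebra.trdeg k L₀ ≤ 1)
    (hgen : Algebra.adjoin M ({y : N | _root_.IsIntegral L₀ y}) = ⊤) :
    ∃ n : ℕ, Nonempty ((M ⊗[E] D) ≃ₐ[M] Matrix (Fin n) (Fin n) M) := by
  classical
  let Γ := N ≃ₐ[M] N
  let F' : IntermediateField L₀ N := algebraicClosure L₀ N
  have hmem : ∀ x : N, x ∈ F' ↔ _root_.IsIntegral L₀ x := fun x => mem_algebraicClosure_iff'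
  letI : MulSemiringAction Γ F' :=
    { smul := fun s x => ⟨s x.1, (hmem _).2 (((hmem _).1 x.2).map (s.restrictScalars L₀ : N →ₐ[L₀] N))⟩
      one_smul := fun _ => rfl
      mul_smul := fun _ _ _ => rfl
      smul_zero := fun s => Subtype.ext (map_zero s)
      smul_add := fun s a b => Subtype.ext (map_add s a.1 b.1)
      smul_one := fun s => Subtype.ext (map_one s)
      smul_mul := fun s a b => Subtype.ext (map_mul s a.1 b.1) }
  have hsmul : ∀ (s : Γ) (x : F'), ((s • x : F') : N) = s (x : N) := fun _ _ => rfl
  haveI : FaithfulSMul Γ F' := ⟨fun {s t} h => AlgEquiv.coe_algHom_injective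
    (AlgHom.ext_of_adjoin_eq_top hgen fun y hy => congrArg Subtype.val (h ⟨y, (hmem y).2 hy⟩))⟩
  have hkN : ∀ (s : Γ) (z : k), s (algebraMap k N z) = algebraMap k N z := fun s z => by
    rw [IsScalarTower.algebraMap_apply k L₀ N, IsScalarTower.algebraMap_apply L₀ M N, AlgEquiv.commutes]
  have hkF' : ∀ z : k, algebraMap k N z ∈ F' := fun z => by
    rw [IsScalarTower.algebraMap_apply k L₀ N]
    exact F'.algebraMap_mem _
  letI : Algebra k F' := ((algebraMap k N).codRestrict F' hkF').toAlgebra
  haveI : IsScalarTower k F' N := IsScalarTower.of_algebraMap_eq fun _ => rfl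
  haveI : IsScalarTower k L₀ F' := IsScalarTower.of_algebraMap_eq fun z =>
    Subtype.ext (IsScalarTower.algebraMap_apply k L₀ N z)
  haveI : SMulCommClass Γ k F' := ⟨fun s z x => by
    apply Subtype.ext
    rw [Algebra.smul_def, Algebra.smul_def]
    show s (algebraMap k N z * x.1) = algebraMap k N z * s x.1
    rw [map_mul, hkN]⟩
  have hF' : Algebra.trdeg k F' ≤ 1 := by
    haveI : Algebra.IsAlgebraic L₀ F' := algebraicClosure.isAlgebraic L₀ N
    have h := trdeg_add_eq k L₀ (A := F')
    rw [trdeg_eq_zero (R := L₀) (A := F'), add_zero] at h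
    rw [← h]
    exact htr
  let res : Γ → (F ≃ₐ[E] F) := fun s => AlgEquiv.restrictNormalHom F (s.restrictScalars E)
  have hresmul : ∀ s t, res (s * t) = res s * res t := fun s t =>
    map_mul (AlgEquiv.restrictNormalHom F) (s.restrictScalars E) (t.restrictScalars E)
  have hres : ∀ s (x : F), algebraMap F N (res s x) = s (algebraMap F N x) := fun s x =>
    AlgEquiv.restrictNormal_commutes (s.restrictScalars E) F x
  let mp : Matrix (Fin m) (Fin m) F →ₐ[E] Matrix (Fin m) (Fin m) N :=
    (IsScalarTower.toAlgHom E F N).mapMatrix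
  have hmp : ∀ (s : Γ) X, s • mp X = mp (res s • X) := fun s X => by
    ext i j
    exact (hres s (X i j)).symm
  have hmps : ∀ (a : F) X, mp (a • X) = algebraMap F N a • mp X := fun a X => by
    ext i j
    simp [mp]
  have hcoc : ∀ s t r, c s t * c (s * t) r = c t r * c s (t * r) := by
    intro s t r
    have h1 : (g s : Matrix (Fin m) (Fin m) F) *
        (s • ((g t : Matrix (Fin m) (Fin m) F) * (t • (g r : Matrix (Fin m) (Fin m) F)))) =
        (algebraMap k F (c s t) * algebraMap k F (c (s * t) r)) • (g (s * t * r) : Matrix (Fin m) (Fin m) F) := by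
      rw [smul_mul', ← mul_assoc, hg, smul_mul_assoc, ← mul_smul, hg, smul_smul]
    have h2 : (g s : Matrix (Fin m) (Fin m) F) *
        (s • ((g t : Matrix (Fin m) (Fin m) F) * (t • (g r : Matrix (Fin m) (Fin m) F)))) =
        (algebraMap k F (c t r) * algebraMap k F (c s (t * r))) • (g (s * t * r) : Matrix (Fin m) (Fin m) F) := by
      rw [hg, CSADescent.smul_smul_matrix, hkF, mul_smul_comm, hg, smul_smul, mul_assoc s t r]
    have hne : (g (s * t * r) : Matrix (Fin m) (Fin m) F) ≠ 0 := by
      haveI : Nonempty (Fin m) := ⟨⟨0, hm⟩⟩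
      exact Units.ne_zero _
    refine Units.ext ((algebraMap k F).injective ?_)
    rw [Units.val_mul, Units.val_mul, map_mul, map_mul]
    exact smul_left_injective F hne (h1.symm.trans h2)
  obtain ⟨f, hf⟩ := exists_coboundary k F' hF' Γ (fun s t => c (res s) (res t)) fun s t r => by
    simp only [hresmul]
    exact hcoc _ _ _
  let fu : Γ → Nˣ := fun s => Units.map (F'.val : F' →* N) (f s)
  let G : Γ → GL (Fin m) N := fun s => Units.map (mp : Matrix (Fin m) (Fin m) F →* Matrix (Fin m) (Fin m) N) (g (res s))
  let h : Γ → GL (Fin m) N := fun s => Matrix.GeneralLinearGroup.scalar (Fin m) (fu s)⁻¹ * G s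
  have hhval : ∀ s, (h s : Matrix (Fin m) (Fin m) N) = ((fu s : N))⁻¹ • mp (g (res s)) := fun s => by
    simp [h, G, Matrix.GeneralLinearGroup.scalar, ← Matrix.smul_eq_diagonal_mul]
  refine exists_split D M N m hm hdim (mp.comp ρ) h (fun s t => Units.ext ?_) fun s d => ?_
  · have hfst : algebraMap k N (c (res s) (res t)) * (fu (s * t) : N) = (fu s : N) * s (fu t : N) :=
      congrArg Subtype.val (hf s t)
    have hne : algebraMap k N (c (res s) (res t)) ≠ 0 := (Units.map (algebraMap k N).toMonoidHom _).ne_zero
    rw [hhval (s * t), Units.val_mul (h s), CSADescent.smul_val s (h t), hhval s, hhval t, CSADescent.smul_smul_matrix, hmp,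
      smul_mul_smul_comm, ← map_mul mp, hg, hmps, smul_smul, map_inv₀, ← mul_inv, ← hfst, mul_inv,
      ← IsScalarTower.algebraMap_apply k F N, hresmul]
    congr 1
    field_simp
  · rw [hhval, AlgHom.comp_apply, hmp, smul_mul_assoc, mul_smul_comm, ← map_mul mp, ← map_mul mp, hρ]

/-- For every Brauer class over a finite separable extension of `K` there is a torsor under a finite
group such that the class dies over every extension over which that torsor descends to a field of
transcendence degree at most one. -/
theorem exists_torsor_splitting (k K : Type u) [Field k] [IsAlgClosed k] [CharZero k] [Field K] [Algebra k K]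
    (E : Type u) [Field E] [Algebra K E] [FiniteDimensional K E]
    (D : Type u) [DivisionRing D] [Algebra E D] [Algebra.IsCentral E D] [FiniteDimensional E D] :
    ∃ (S : Over (Spec (CommRingCat.of k))) (_ : GrpObj S) (_ : IsFinite S.hom)
      (β : NonAbH1.TorsorSch (Red.bc (Spec.map (CommRingCat.ofHom (algebraMap k K))) S) Scheme.etalePrecoverage),
      ∀ (L : Type u) [Field L] [Algebra K L] (L₀ : Type u) [Field L₀] [Algebra k L₀] [Algebra L₀ L],
        Spec.map (CommRingCat.ofHom (algebraMap L₀ L)) ≫ Spec.map (CommRingCat.ofHom (algebraMap k L₀)) =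
          Spec.map (CommRingCat.ofHom (algebraMap K L)) ≫ Spec.map (CommRingCat.ofHom (algebraMap k K)) →
        ∀ (X₀ : Over (Spec (CommRingCat.of L₀))), Algebra.trdeg k L₀ ≤ 1 →
        (Red.bc (Spec.map (CommRingCat.ofHom (algebraMap L₀ L))) X₀ ≅
          Red.bc (Spec.map (CommRingCat.ofHom (algebraMap K L))) β.X) →
        ∀ (M : Type u) [Field M] [Algebra K M] [Algebra E M] [Algebra L M] [IsScalarTower K E M]
          [IsScalarTower K L M],
          ∃ n : ℕ, Nonempty ((M ⊗[E] D) ≃ₐ[M] Matrix (Fin n) (Fin n) M) := by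
  classical
  obtain ⟨F, _, _, _, _, _, _, _, _, m, ρ, g, c, hm, hdim, hρ, hg⟩ := exists_datum k K E D
  refine ⟨ConstAct.GR k (F ≃ₐ[K] F), inferInstance, inferInstance, galTorsor k K F, ?_⟩
  intro L _ _ L₀ _ _ _ hc X₀ htr e M _ _ _ _ _ _
  have hc' : (algebraMap L₀ L).comp (algebraMap k L₀) = (algebraMap K L).comp (algebraMap k K) := by
    rw [← Spec.map_comp, ← Spec.map_comp, ← CommRingCat.ofHom_comp, ← CommRingCat.ofHom_comp] at hc
    exact congrArg CommRingCat.Hom.hom (Spec.map_injective hc)
  haveI : CharZero K := charZero_of_injective_algebraMap (algebraMap k K).injective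
  haveI : CharZero M := charZero_of_injective_algebraMap (algebraMap K M).injective
  haveI : FiniteDimensional E F := FiniteDimensional.right K E F
  haveI : Normal E F := Normal.tower_top_of_normal K E F
  let Ω := AlgebraicClosure M
  let j : F →ₐ[E] Ω := IsAlgClosed.lift
  let b := Module.finBasis E F
  let N : IntermediateField M Ω := IntermediateField.adjoin M (Set.range fun i => j (b i))
  haveI : Finite (Set.range fun i => j (b i)) := (Set.finite_range _).to_subtype
  haveI : FiniteDimensional M N :=
    IntermediateField.finiteDimensional_adjoin fun x _ => Algebra.IsIntegral.isIntegral x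
  have hjN : ∀ x : F, j x ∈ N := fun x => by
    rw [← b.sum_repr x, map_sum]
    refine sum_mem fun i _ => ?_
    rw [map_smul, Algebra.smul_def, IsScalarTower.algebraMap_apply E M Ω]
    exact N.mul_mem (N.algebraMap_mem _) (IntermediateField.subset_adjoin M _ ⟨i, rfl⟩)
  haveI : Normal M N := by
    rw [IntermediateField.normal_iff_forall_map_le]
    intro s
    rw [IntermediateField.adjoin_map, IntermediateField.adjoin_le_iff]
    rintro _ ⟨_, ⟨i, rfl⟩, rfl⟩
    letI : Algebra F Ω := j.toRingHom.toAlgebra
    haveI : IsScalarTower E F Ω := IsScalarTower.of_algebraMap_eq fun x => (j.commutes x).symm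
    rw [show s (j (b i)) = j (((s.restrictScalars E).restrictNormal' F) (b i)) from
      ((s.restrictScalars E).restrictNormal_commutes F (b i)).symm]
    exact hjN _
  haveI : IsGalois M N := ⟨⟩
  letI algFN : Algebra F N := ((j : F →+* Ω).codRestrict N hjN).toAlgebra
  haveI : IsScalarTower E F N := IsScalarTower.of_algebraMap_eq fun x => Subtype.ext (j.commutes x).symm
  haveI : IsScalarTower K E N := IsScalarTower.of_algebraMap_eq fun x => by
    rw [IsScalarTower.algebraMap_apply E M N, ← IsScalarTower.algebraMap_apply K E M,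
      ← IsScalarTower.algebraMap_apply K M N]
  haveI : IsScalarTower K F N := IsScalarTower.of_algebraMap_eq fun x => by
    rw [IsScalarTower.algebraMap_apply K E F, ← IsScalarTower.algebraMap_apply E F N,
      ← IsScalarTower.algebraMap_apply K E N]
  letI algL₀M : Algebra L₀ M := ((algebraMap L M).comp (algebraMap L₀ L)).toAlgebra
  letI algkN : Algebra k N := ((algebraMap M N).comp ((algebraMap L₀ M).comp (algebraMap k L₀))).toAlgebra
  haveI : IsScalarTower k L₀ N := IsScalarTower.of_algebraMap_eq fun z => by
    rw [IsScalarTower.algebraMap_apply L₀ M N]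
    rfl
  haveI : IsScalarTower k F N := IsScalarTower.of_algebraMap_eq fun z => by
    rw [IsScalarTower.algebraMap_apply k K F, ← IsScalarTower.algebraMap_apply K F N,
      IsScalarTower.algebraMap_apply K M N, IsScalarTower.algebraMap_apply K L M]
    exact congrArg (fun w => algebraMap M N (algebraMap L M w)) (RingHom.congr_fun hc' z)
  refine split_of_generated k D F m hm hdim ρ g c (fun s z => ?_) hρ hg M N L₀ htr ?_
  · rw [IsScalarTower.algebraMap_apply k K F, IsScalarTower.algebraMap_apply K E F, AlgEquiv.commutes]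
  rw [eq_top_iff]
  rintro x -
  have hsub : ∀ y : F, algebraMap F N y ∈ Algebra.adjoin M {y : N | _root_.IsIntegral L₀ y} := fun y => by
    have hy := mem_adjoin_of_bc_iso (K := K) (L := L) (L₀ := L₀) (F := F) X₀ e N (algebraMap F N)
      (by
        ext a
        simp only [RingHom.comp_apply]
        rw [← IsScalarTower.algebraMap_apply K F N, IsScalarTower.algebraMap_apply K M N,
          IsScalarTower.algebraMap_apply L M N, IsScalarTower.algebraMap_apply K L M]) y
    revert hy
    generalize algebraMap F N y = w
    intro hy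
    induction hy using Algebra.adjoin_induction with
    | mem z hz =>
      refine Algebra.subset_adjoin ?_
      show _root_.IsIntegral L₀ z
      rw [_root_.IsIntegral]
      rw [show algebraMap L₀ N = (algebraMap L N).comp (algebraMap L₀ L) from RingHom.ext fun a => by
        rw [RingHom.comp_apply, IsScalarTower.algebraMap_apply L₀ M N, IsScalarTower.algebraMap_apply L M N]
        rfl]
      exact hz
    | algebraMap r => rw [IsScalarTower.algebraMap_apply L M N]; exact Subalgebra.algebraMap_mem _ _
    | add p q _ _ hp hq => exact add_mem hp hq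
    | mul p q _ _ hp hq => exact mul_mem hp hq
  have hx : (x : Ω) ∈ Algebra.adjoin M (Set.range fun i => j (b i)) := by
    rw [← IntermediateField.adjoin_toSubalgebra_of_isAlgebraic
      (fun y (_ : y ∈ Set.range fun i => j (b i)) => Algebra.IsAlgebraic.isAlgebraic (R := M) (A := Ω) y)]
    exact x.2
  have hle : Algebra.adjoin M (Set.range fun i => j (b i)) ≤
      (Algebra.adjoin M {y : N | _root_.IsIntegral L₀ y}).map N.val := by
    rw [Algebra.adjoin_le_iff]
    rintro _ ⟨i, rfl⟩
    exact ⟨_, hsub (b i), rfl⟩
  obtain ⟨x', hx', he⟩ := hle hx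
  rwa [show x' = x from Subtype.ext he] at hx'

end Groth.Agent.H13Lib
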